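import Mathlib
import Cfsg.Prelude.Def_Classical

/-!
# Counting values of the standard quadratic forms and nonsingular lines
-/

set_option autoImplicit false

namespace Cfsg.Agent.Lib.Elusive.QuadCount

open Module Matrix

variable {F : Type*} [Field F] [Fintype F] {q : ℕ}

/-- Fibres of a non-zero linear functional `y ↦ x ⬝ᵥ y`. -/
theorem card_dot_fiber (hq : Fintype.card F = q) {k : ℕ} (x : Fin k → F) (hx : x ≠ 0) (t : F) :
    Nat.card {y : Fin k → F // x ⬝ᵥ y = t} = q ^ (k - 1) := by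
  classical
  obtain ⟨i, hi⟩ : ∃ i, x i ≠ 0 := by
    by_contra h
    push Not at h
    exact hx (funext h)
  let φ : (Fin k → F) →ₗ[F] F :=
    { toFun := fun y => x ⬝ᵥ y
      map_add' := fun a b => dotProduct_add _ _ _
      map_smul' := fun c a => dotProduct_smul _ _ _ }
  have hφ : ∀ y, φ y = x ⬝ᵥ y := fun _ => rfl
  have hsurj : Function.Surjective φ := by
    intro s
    refine ⟨Pi.single i ((x i)⁻¹ * s), ?_⟩
    rw [hφ, dotProduct_single]
    field_simp
  obtain ⟨y₀, hy₀⟩ := hsurj t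
  have hk : 1 ≤ k := by
    have := i.isLt
    omega
  have h1 : finrank F (LinearMap.ker φ) = k - 1 := by
    have h2 := LinearMap.finrank_range_add_finrank_ker φ
    rw [LinearMap.range_eq_top.2 hsurj, finrank_top, finrank_self] at h2
    simp at h2
    omega
  let e : LinearMap.ker φ ≃ {y : Fin k → F // x ⬝ᵥ y = t} :=
    { toFun := fun z => ⟨z.1 + y₀, by rw [← hφ, map_add, hy₀, LinearMap.mem_ker.1 z.2, zero_add]⟩
      invFun := fun y => ⟨y.1 - y₀, by rw [LinearMap.mem_ker, map_sub, hφ, y.2, hy₀, sub_self]⟩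
      left_inv := fun z => by simp
      right_inv := fun y => by simp }
  rw [← Nat.card_congr e, Module.natCard_eq_pow_finrank (K := F), h1, Nat.card_eq_fintype_card, hq]

/-- The number of pairs with a given dot product. -/
theorem card_dot_total [DecidableEq F] (hq : Fintype.card F = q) (k : ℕ) (t : F) :
    Nat.card {p : (Fin k → F) × (Fin k → F) // p.1 ⬝ᵥ p.2 = t} =
      (if t = 0 then q ^ k else 0) + (q ^ k - 1) * q ^ (k - 1) := by
  let e : {p : (Fin k → F) × (Fin k → F) // p.1 ⬝ᵥ p.2 = t} ≃ Σ x : Fin k → F, {y : Fin k → F // x ⬝ᵥ y = t} :=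
    { toFun := fun p => ⟨p.1.1, ⟨p.1.2, p.2⟩⟩
      invFun := fun s => ⟨(s.1, s.2.1), s.2.2⟩
      left_inv := fun p => rfl
      right_inv := fun s => rfl }
  rw [Nat.card_congr e, Nat.card_sigma]
  have hV : Fintype.card (Fin k → F) = q ^ k := by simp [hq]
  rw [← Finset.add_sum_erase Finset.univ _ (Finset.mem_univ (0 : Fin k → F))]
  congr 1
  · by_cases ht : t = 0
    · subst ht
      simp only [if_true, zero_dotProduct]
      rw [Nat.card_eq_fintype_card]
      simp [hq]
    · have : IsEmpty {y : Fin k → F // (0 : Fin k → F) ⬝ᵥ y = t} := ⟨fun y => ht (by rw [← y.2]; simp)⟩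
      rw [if_neg ht, Nat.card_of_isEmpty]
  · rw [Finset.sum_congr rfl (fun x hx => card_dot_fiber hq x (Finset.ne_of_mem_erase hx) t), Finset.sum_const,
      Finset.card_erase_of_mem (Finset.mem_univ _), Finset.card_univ, hV, smul_eq_mul]

/-- Values of the plus form. -/
theorem card_plus_eq [DecidableEq F] (hq : Fintype.card F = q) (k : ℕ) (t : F) :
    Nat.card {v : Fin k ⊕ Fin k → F // Cfsg.quadFormPlus k F v = t} =
      (if t = 0 then q ^ k else 0) + (q ^ k - 1) * q ^ (k - 1) := by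
  rw [← card_dot_total hq k t]
  refine Nat.card_congr ((Equiv.sumArrowEquivProdArrow _ _ _).subtypeEquiv ?_)
  intro v
  rfl

theorem arith_plus {q k N : ℕ} (hq : 2 ≤ q) (hk : 1 ≤ k)
    (h : q ^ k + (q ^ k - 1) * q ^ (k - 1) + N = q ^ (k + k)) : N = (q - 1) * (q ^ (k - 1) * (q ^ k - 1)) := by
  obtain ⟨k', rfl⟩ : ∃ k', k = k' + 1 := ⟨k - 1, by omega⟩
  obtain ⟨a, rfl⟩ : ∃ a, q = a + 1 := ⟨q - 1, by omega⟩
  simp only [Nat.add_sub_cancel] at h ⊢
  set c := (a + 1) ^ k' with hc
  have h1 : (a + 1) ^ (k' + 1) = c * (a + 1) := pow_succ _ _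
  obtain ⟨b, hb⟩ : ∃ b, c * (a + 1) = b + 1 :=
    ⟨c * (a + 1) - 1, by
      have : 0 < c * (a + 1) := by positivity
      omega⟩
  have h2 : (a + 1) ^ (k' + 1 + (k' + 1)) = (b + 1) * (b + 1) := by rw [pow_add, h1, hb]
  rw [h2, h1, hb, Nat.add_sub_cancel] at h
  rw [h1, hb, Nat.add_sub_cancel]
  have h3 : (b + 1) * (b + 1) = (b + 1) + b * c + a * (c * b) := by
    calc (b + 1) * (b + 1) = (b + 1) + b * (b + 1) := by ring
      _ = (b + 1) + b * (c * (a + 1)) := by rw [hb]
      _ = _ := by ring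
  linarith

theorem arith_minus {q k N : ℕ} (hq : 2 ≤ q)
    (h : q ^ k + q ^ 2 * ((q ^ k - 1) * q ^ (k - 1)) + N = q ^ (k + k + 2)) :
    N = (q - 1) * (q ^ k * (q ^ (k + 1) + 1)) := by
  rcases Nat.eq_zero_or_pos k with rfl | hk
  · obtain ⟨a, rfl⟩ : ∃ a, q = a + 1 := ⟨q - 1, by omega⟩
    simp only [Nat.add_sub_cancel, pow_zero, zero_add, pow_one, mul_one, Nat.sub_self, zero_mul, mul_zero, add_zero] at h ⊢
    have h3 : (a + 1) ^ 2 = 1 + a * (a + 1 + 1) := by ring
    linarith
  obtain ⟨k', rfl⟩ : ∃ k', k = k' + 1 := ⟨k - 1, by omega⟩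
  obtain ⟨a, rfl⟩ : ∃ a, q = a + 1 := ⟨q - 1, by omega⟩
  simp only [Nat.add_sub_cancel] at h ⊢
  set c := (a + 1) ^ k' with hc
  have h1 : (a + 1) ^ (k' + 1) = c * (a + 1) := pow_succ _ _
  obtain ⟨b, hb⟩ : ∃ b, c * (a + 1) = b + 1 :=
    ⟨c * (a + 1) - 1, by
      have : 0 < c * (a + 1) := by positivity
      omega⟩
  have h2 : (a + 1) ^ (k' + 1 + (k' + 1) + 2) = (b + 1) * (b + 1) * (a + 1) ^ 2 := by
    rw [pow_add, pow_add, h1, hb]
  have h4 : (a + 1) ^ (k' + 1 + 1) = (b + 1) * (a + 1) := by rw [pow_succ, h1, hb]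
  rw [h2, h1, hb, Nat.add_sub_cancel] at h
  rw [h4, h1, hb]
  have h5 : (a + 1) ^ 2 * (b * c) = (a + 1) * b * (b + 1) := by
    rw [← hb]
    ring
  rw [h5] at h
  have h3 : (b + 1) * (b + 1) * (a + 1) ^ 2 = (b + 1) + (a + 1) * b * (b + 1) + a * ((b + 1) * ((b + 1) * (a + 1) + 1)) := by
    ring
  linarith

/-- Non-singular vectors of the plus form. -/
theorem card_plus_ne (hq : Fintype.card F = q) (k : ℕ) (hk : 1 ≤ k) :
    Nat.card {v : Fin k ⊕ Fin k → F // Cfsg.quadFormPlus k F v ≠ 0} = (q - 1) * (q ^ (k - 1) * (q ^ k - 1)) := by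
  classical
  have hq2 : 2 ≤ q := hq ▸ Fintype.one_lt_card
  have h0 := card_plus_eq hq k (0 : F)
  simp only [if_true] at h0
  have htot : Nat.card {v : Fin k ⊕ Fin k → F // Cfsg.quadFormPlus k F v = 0} +
      Nat.card {v : Fin k ⊕ Fin k → F // Cfsg.quadFormPlus k F v ≠ 0} = q ^ (k + k) := by
    rw [Nat.card_eq_fintype_card, Nat.card_eq_fintype_card, Fintype.card_subtype_compl]
    have h1 : Fintype.card (Fin k ⊕ Fin k → F) = q ^ (k + k) := by simp [hq]
    have h2 := Fintype.card_subtype_le (fun v : Fin k ⊕ Fin k → F => Cfsg.quadFormPlus k F v = 0)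
    omega
  rw [h0] at htot
  exact arith_plus hq2 hk htot

/-- Non-singular vectors of the minus form. -/
theorem card_minus_ne (hq : Fintype.card F = q) (k : ℕ) (a b : F)
    (hab : ∀ x y : F, x ^ 2 + a * x * y + b * y ^ 2 = 0 → x = 0 ∧ y = 0) :
    Nat.card {v : (Fin k ⊕ Fin k) ⊕ Fin 2 → F // Cfsg.quadFormMinus k F a b v ≠ 0} =
      (q - 1) * (q ^ k * (q ^ (k + 1) + 1)) := by
  classical
  have hq2 : 2 ≤ q := hq ▸ Fintype.one_lt_card
  -- zeros
  let A : (Fin 2 → F) → F := fun z => z 0 ^ 2 + a * z 0 * z 1 + b * z 1 ^ 2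
  let e : {v : (Fin k ⊕ Fin k) ⊕ Fin 2 → F // Cfsg.quadFormMinus k F a b v = 0} ≃
      Σ z : Fin 2 → F, {w : Fin k ⊕ Fin k → F // Cfsg.quadFormPlus k F w = - A z} :=
    { toFun := fun v => ⟨fun i => v.1 (Sum.inr i), ⟨fun i => v.1 (Sum.inl i), by
        have := v.2
        simp only [Cfsg.quadFormMinus] at this
        simp only [Cfsg.quadFormPlus, A]
        linear_combination this⟩⟩
      invFun := fun s => ⟨Sum.elim s.2.1 s.1, by
        have := s.2.2
        simp only [Cfsg.quadFormPlus, A] at this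
        simp only [Cfsg.quadFormMinus, Sum.elim_inl, Sum.elim_inr]
        linear_combination this⟩
      left_inv := fun v => by
        apply Subtype.ext
        ext (i | i) <;> rfl
      right_inv := fun s => rfl }
  have hz : Nat.card {v : (Fin k ⊕ Fin k) ⊕ Fin 2 → F // Cfsg.quadFormMinus k F a b v = 0} =
      q ^ k + q ^ 2 * ((q ^ k - 1) * q ^ (k - 1)) := by
    rw [Nat.card_congr e, Nat.card_sigma]
    have hA : ∀ z, A z = 0 ↔ z = 0 := by
      intro z
      constructor
      · intro h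
        obtain ⟨h0, h1⟩ := hab _ _ h
        ext i
        fin_cases i
        · exact h0
        · exact h1
      · rintro rfl
        simp [A]
    have hV : Fintype.card (Fin 2 → F) = q ^ 2 := by simp [hq]
    rw [← Finset.add_sum_erase Finset.univ _ (Finset.mem_univ (0 : Fin 2 → F))]
    have h1 : ∀ z ∈ Finset.univ.erase (0 : Fin 2 → F),
        Nat.card {w : Fin k ⊕ Fin k → F // Cfsg.quadFormPlus k F w = - A z} = (q ^ k - 1) * q ^ (k - 1) := by
      intro z hz
      rw [card_plus_eq hq]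
      have hz0 : - A z ≠ 0 := neg_ne_zero.2 (fun h => (Finset.ne_of_mem_erase hz) ((hA z).1 h))
      simp [hz0]
    rw [Finset.sum_congr rfl h1, Finset.sum_const, Finset.card_erase_of_mem (Finset.mem_univ _), Finset.card_univ, hV,
      smul_eq_mul, card_plus_eq hq]
    have hA0 : - A 0 = 0 := by rw [(hA 0).2 rfl, neg_zero]
    simp only [hA0, if_true]
    have hq21 : 1 ≤ q ^ 2 := Nat.one_le_pow _ _ (by omega)
    obtain ⟨s, hs⟩ : ∃ s, q ^ 2 = s + 1 := ⟨q ^ 2 - 1, by omega⟩
    rw [hs, Nat.add_sub_cancel]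
    ring
  have htot : Nat.card {v : (Fin k ⊕ Fin k) ⊕ Fin 2 → F // Cfsg.quadFormMinus k F a b v = 0} +
      Nat.card {v : (Fin k ⊕ Fin k) ⊕ Fin 2 → F // Cfsg.quadFormMinus k F a b v ≠ 0} = q ^ (k + k + 2) := by
    rw [Nat.card_eq_fintype_card, Nat.card_eq_fintype_card, Fintype.card_subtype_compl]
    have h1 : Fintype.card ((Fin k ⊕ Fin k) ⊕ Fin 2 → F) = q ^ (k + k + 2) := by simp [hq]
    have h2 := Fintype.card_subtype_le (fun v : (Fin k ⊕ Fin k) ⊕ Fin 2 → F => Cfsg.quadFormMinus k F a b v = 0)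
    omega
  rw [hz] at htot
  exact arith_minus hq2 htot

/-- Nonsingular lines versus nonsingular vectors. -/
theorem card_lines_mul (hq : Fintype.card F = q) {V : Type*} [AddCommGroup V] [Module F V] [Finite V]
    (Q : V → F) (hQ : ∀ (c : F) v, Q (c • v) = c ^ 2 * Q v) :
    Nat.card {W : Submodule F V // finrank F W = 1 ∧ ∃ v ∈ W, Q v ≠ 0} * (q - 1) =
      Nat.card {v : V // Q v ≠ 0} := by
  classical
  have hz : Q 0 = 0 := by
    have := hQ 0 0
    simpa using this
  let L := {W : Submodule F V // finrank F W = 1 ∧ ∃ v ∈ W, Q v ≠ 0}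
  have hne0 : ∀ v, Q v ≠ 0 → v ≠ 0 := by
    rintro v hv rfl
    exact hv hz
  have hspan : ∀ v : V, v ≠ 0 → finrank F (Submodule.span F {v}) = 1 := fun v hv => finrank_span_singleton hv
  let π : {v : V // Q v ≠ 0} → L := fun v =>
    ⟨Submodule.span F {v.1}, hspan _ (hne0 _ v.2), v.1, Submodule.mem_span_singleton_self _, v.2⟩
  haveI : Finite (Submodule F V) :=
    Finite.of_injective (fun S : Submodule F V => (S : Set V)) SetLike.coe_injective
  haveI : Fintype L := Fintype.ofFinite _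
  have hfib : ∀ W : L, Nat.card {v : {v : V // Q v ≠ 0} // π v = W} = q - 1 := by
    rintro ⟨W, hW, v₀, hv₀, hQv₀⟩
    have hv₀0 := hne0 _ hQv₀
    have hWeq : Submodule.span F {v₀} = W := by
      apply Submodule.eq_of_le_of_finrank_eq
      · rw [Submodule.span_singleton_le_iff_mem]
        exact hv₀
      · rw [hW, hspan _ hv₀0]
    have hunits : Nat.card Fˣ = q - 1 := by
      rw [Nat.card_eq_fintype_card, Fintype.card_units, hq]
    rw [← hunits]
    symm
    refine Nat.card_congr (Equiv.ofBijective (fun c : Fˣ => ⟨⟨(c : F) • v₀, ?_⟩, ?_⟩) ⟨?_, ?_⟩)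
    · rw [hQ]
      exact mul_ne_zero (pow_ne_zero _ c.ne_zero) hQv₀
    · apply Subtype.ext
      change Submodule.span F {(c : F) • v₀} = W
      rw [← hWeq]
      exact Submodule.span_singleton_smul_eq c.isUnit _
    · intro c c' h
      have h1 : (c : F) • v₀ = (c' : F) • v₀ := congrArg (fun t => t.1.1) h
      have h2 : ((c : F) - c') • v₀ = 0 := by rw [sub_smul, h1, sub_self]
      have h3 := (smul_eq_zero.1 h2).resolve_right hv₀0
      exact Units.ext (sub_eq_zero.1 h3)
    · rintro ⟨⟨v, hv⟩, hvW⟩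
      have h1 : Submodule.span F {v} = W := congrArg Subtype.val hvW
      have h2 : v ∈ Submodule.span F {v₀} := by
        rw [hWeq, ← h1]
        exact Submodule.mem_span_singleton_self _
      obtain ⟨c, rfl⟩ := Submodule.mem_span_singleton.1 h2
      have hc : c ≠ 0 := by
        rintro rfl
        rw [zero_smul] at hv
        exact hv hz
      refine ⟨Units.mk0 c hc, ?_⟩
      apply Subtype.ext
      apply Subtype.ext
      rfl
  rw [← Nat.card_congr (Equiv.sigmaFiberEquiv π), Nat.card_sigma]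
  simp only [hfib]
  rw [Finset.sum_const, Finset.card_univ, smul_eq_mul, Nat.card_eq_fintype_card]

/-- The number of nonsingular lines, plus type. -/
theorem card_lines_plus (hq : Fintype.card F = q) (k : ℕ) (hk : 1 ≤ k) :
    Nat.card {W : Submodule F (Fin k ⊕ Fin k → F) // finrank F W = 1 ∧ ∃ v ∈ W, Cfsg.quadFormPlus k F v ≠ 0} =
      q ^ (k - 1) * (q ^ k - 1) := by
  have hq2 : 2 ≤ q := hq ▸ Fintype.one_lt_card
  have h1 := card_lines_mul hq (Cfsg.quadFormPlus k F) (fun c v => by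
    simp only [Cfsg.quadFormPlus, Pi.smul_apply, smul_eq_mul, Finset.mul_sum]
    exact Finset.sum_congr rfl fun _ _ => by ring)
  rw [card_plus_ne hq k hk, mul_comm] at h1
  exact Nat.eq_of_mul_eq_mul_left (by omega) h1

/-- The number of nonsingular lines, minus type. -/
theorem card_lines_minus (hq : Fintype.card F = q) (k : ℕ) (a b : F)
    (hab : ∀ x y : F, x ^ 2 + a * x * y + b * y ^ 2 = 0 → x = 0 ∧ y = 0) :
    Nat.card {W : Submodule F ((Fin k ⊕ Fin k) ⊕ Fin 2 → F) // finrank F W = 1 ∧ ∃ v ∈ W, Cfsg.quadFormMinus k F a b v ≠ 0} =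
      q ^ k * (q ^ (k + 1) + 1) := by
  have hq2 : 2 ≤ q := hq ▸ Fintype.one_lt_card
  have h1 := card_lines_mul hq (Cfsg.quadFormMinus k F a b) (fun c v => by
    simp only [Cfsg.quadFormMinus, Pi.smul_apply, smul_eq_mul]
    rw [mul_add, Finset.mul_sum]
    congr 1
    · exact Finset.sum_congr rfl fun _ _ => by ring
    · ring)
  rw [card_minus_ne hq k a b hab, mul_comm] at h1
  exact Nat.eq_of_mul_eq_mul_left (by omega) h1

/-- In characteristic two, vectors of norm one correspond to nonsingular lines. -/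
theorem card_norm_one [CharP F 2] {V : Type*} [AddCommGroup V] [Module F V]
    (Q : V → F) (hQ : ∀ (c : F) v, Q (c • v) = c ^ 2 * Q v) :
    Nat.card {v : V // Q v = 1} =
      Nat.card {W : Submodule F V // finrank F W = 1 ∧ ∃ v ∈ W, Q v ≠ 0} := by
  classical
  have hz : Q 0 = 0 := by
    have := hQ 0 0
    simpa using this
  have hne0 : ∀ v : V, Q v ≠ 0 → v ≠ 0 := by
    rintro v hv rfl
    exact hv hz
  have hch : ringChar F = 2 := ringChar.eq F 2
  have hsq : ∀ c : F, c ^ 2 = 1 → c = 1 := by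
    intro c hc
    have h22 : (2 : F) = 0 := CharTwo.two_eq_zero
    have h3 : (c - 1) ^ 2 = 0 := by linear_combination hc - c * h22 + h22
    exact sub_eq_zero.1 (pow_eq_zero_iff (two_ne_zero) |>.1 h3)
  refine Nat.card_congr (Equiv.ofBijective (fun v => ⟨Submodule.span F {v.1},
    finrank_span_singleton (hne0 _ (by rw [v.2]; exact one_ne_zero)), v.1, Submodule.mem_span_singleton_self _,
      by rw [v.2]; exact one_ne_zero⟩) ⟨?_, ?_⟩)
  · rintro ⟨v, hv⟩ ⟨v', hv'⟩ h
    have h1 : Submodule.span F {v} = Submodule.span F {v'} := congrArg Subtype.val h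
    have h2 : v ∈ Submodule.span F {v'} := by
      rw [← h1]
      exact Submodule.mem_span_singleton_self _
    obtain ⟨c, rfl⟩ := Submodule.mem_span_singleton.1 h2
    rw [hQ, hv', mul_one] at hv
    rw [Subtype.mk.injEq, hsq c hv, one_smul]
  · rintro ⟨W, hW, v₀, hv₀, hQv₀⟩
    obtain ⟨s, hs⟩ := FiniteField.isSquare_of_char_two hch (Q v₀)⁻¹
    have hs0 : s ≠ 0 := by
      rintro rfl
      rw [mul_zero] at hs
      exact inv_ne_zero hQv₀ hs
    have hQs : Q (s • v₀) = 1 := by
      rw [hQ, pow_two, ← hs]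
      exact inv_mul_cancel₀ hQv₀
    refine ⟨⟨s • v₀, hQs⟩, ?_⟩
    apply Subtype.ext
    haveI : FiniteDimensional F W := Module.finite_of_finrank_pos (by rw [hW]; norm_num)
    apply Submodule.eq_of_le_of_finrank_eq
    · rw [Submodule.span_singleton_le_iff_mem]
      exact W.smul_mem _ hv₀
    · simp only
      rw [hW, finrank_span_singleton (hne0 _ (by rw [hQs]; exact one_ne_zero))]

end Cfsg.Agent.Lib.Elusive.QuadCount
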