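import Mathlib
import Cfsg.Agent.Lib.Orth.Bridge
import Cfsg.Agent.Lib.Orth.Forms
import Cfsg.Prelude.Def_GeometricClasses

/-!
# Membership in `Ω`

Elements of odd order of the isometry group lie in `Ω`; in characteristic two membership in `Ω` is
decided by the parity of the rank of `x - 1`.
-/

set_option autoImplicit false

namespace Cfsg.Agent.Lib.Elusive.OmegaMem

open Matrix Module Cfsg Cfsg.Agent.Lib.Witt.Quadratic Cfsg.Agent.Lib.Orth.Refl Cfsg.Agent.Lib.Orth.Wall
  Cfsg.Agent.Lib.Orth.Gen Cfsg.Agent.Lib.Orth.Spin Cfsg.Agent.Lib.Orth.Omega Cfsg.Agent.Lib.Orth.Bridge QuadraticMap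

variable {F : Type*} [Field F] [Fintype F] {ι : Type} [Fintype ι] [DecidableEq ι]

/-- Membership in `omegaGL`. -/
theorem mem_omegaGL_iff (Q : (ι → F) → F) (x : GL ι F) :
    x ∈ Cfsg.Geo.omegaGL Q ↔ ∃ hx : x ∈ isometryGroup F Q, (⟨x, hx⟩ : isometryGroup F Q) ∈ Omega F Q := by
  constructor
  · rintro ⟨g, hg, rfl⟩
    exact ⟨g.2, hg⟩
  · rintro ⟨hx, h⟩
    exact ⟨⟨x, hx⟩, h, rfl⟩

/-- The rank of `x - 1` is the Dickson rank. -/
theorem rk_toIso (Q : QuadraticForm F (ι → F)) (x : GL ι F) (hx : x ∈ isometryGroup F ⇑Q) :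
    rk ((toIso Q ⟨x, hx⟩ : isoGroup Q) : (ι → F) ≃ₗ[F] (ι → F)) = ((x : Matrix ι ι F) - 1).rank := by
  have h1 : ((LinearMap.id : (ι → F) →ₗ[F] (ι → F)) - (((toIso Q ⟨x, hx⟩ : isoGroup Q) : (ι → F) ≃ₗ[F] (ι → F)) : (ι → F) →ₗ[F] (ι → F))) =
      - (((x : Matrix ι ι F) - 1).mulVecLin) := by
    refine LinearMap.ext fun v => ?_
    simp [Matrix.sub_mulVec]
  rw [rk, movSp, h1, LinearMap.range_neg, Matrix.rank]

private theorem eq_one_of_pow (a : Multiplicative (ZMod 2)) {r : ℕ} (hr : Odd r) (h : a ^ r = 1) : a = 1 := by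
  have h2 : ∀ a : Multiplicative (ZMod 2), a ^ 2 = 1 := by decide
  obtain ⟨k, rfl⟩ := hr
  rw [pow_succ, pow_mul, h2, one_pow, one_mul] at h
  exact h

/-- Elements of odd order lie in `Ω`. -/
theorem mem_omega_of_odd (Q : QuadraticForm F (ι → F)) (hQ : (polarBilin Q).Nondegenerate)
    (h : Fintype.card F ≠ 2 ∨ Fintype.card ι ≠ 4) (x : GL ι F) (hx : x ∈ isometryGroup F ⇑Q) {r : ℕ} (hr : Odd r)
    (hxr : x ^ r = 1) : x ∈ Cfsg.Geo.omegaGL ⇑Q := by
  rw [mem_omegaGL_iff]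
  refine ⟨hx, ?_⟩
  rw [mem_Omega_iff Q hQ h]
  set g : isometryGroup F ⇑Q := ⟨x, hx⟩ with hg
  have hgr : g ^ r = 1 := Subtype.ext (by
    change x ^ r = 1
    exact hxr)
  have hy : toIso Q g ^ r = 1 := by
    rw [← map_pow, hgr, map_one]
  have hgen' := hgen Q hQ h
  constructor
  · have h1 := eq_one_of_pow (rpHom hQ hgen' (toIso Q g)) hr (by rw [← map_pow, hy, map_one])
    exact h1
  · have h1 := eq_one_of_pow (snHom hQ hgen' (toIso Q g)) hr (by rw [← map_pow, hy, map_one])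
    exact h1

/-- Elements of `Ω` have even rank. -/
theorem even_rank_of_mem_omega (Q : QuadraticForm F (ι → F)) (hQ : (polarBilin Q).Nondegenerate)
    (h : Fintype.card F ≠ 2 ∨ Fintype.card ι ≠ 4) (x : GL ι F) (hΩ : x ∈ Cfsg.Geo.omegaGL ⇑Q) :
    Even ((x : Matrix ι ι F) - 1).rank := by
  rw [mem_omegaGL_iff] at hΩ
  obtain ⟨hx, hm⟩ := hΩ
  rw [mem_Omega_iff Q hQ h] at hm
  have h1 := hm.1
  rw [rp, rk_toIso] at h1
  exact (ZMod.natCast_eq_zero_iff_even).1 h1

/-- In characteristic two, even rank implies membership in `Ω`. -/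
theorem mem_omega_of_even_rank [CharP F 2] (Q : QuadraticForm F (ι → F)) (hQ : (polarBilin Q).Nondegenerate)
    (h : Fintype.card F ≠ 2 ∨ Fintype.card ι ≠ 4) (x : GL ι F) (hx : x ∈ isometryGroup F ⇑Q)
    (he : Even ((x : Matrix ι ι F) - 1).rank) : x ∈ Cfsg.Geo.omegaGL ⇑Q := by
  rw [mem_omegaGL_iff]
  refine ⟨hx, ?_⟩
  rw [mem_Omega_iff Q hQ h]
  constructor
  · rw [rp, rk_toIso]
    exact (ZMod.natCast_eq_zero_iff_even).2 he
  · exact sqc_of_char_two _

/-- A unit from a power identity. -/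
def glOfPow (X : Matrix ι ι F) (r : ℕ) (hr : 0 < r) (h : X ^ r = 1) : GL ι F :=
  ⟨X, X ^ (r - 1), by rw [← pow_succ', Nat.sub_add_cancel hr, h], by rw [← pow_succ, Nat.sub_add_cancel hr, h]⟩

@[simp] theorem coe_glOfPow (X : Matrix ι ι F) (r : ℕ) (hr : 0 < r) (h : X ^ r = 1) :
    ((glOfPow X r hr h : GL ι F) : Matrix ι ι F) = X := rfl

theorem glOfPow_pow (X : Matrix ι ι F) (r : ℕ) (hr : 0 < r) (h : X ^ r = 1) : glOfPow X r hr h ^ r = 1 :=
  Units.ext (by
    rw [Units.val_pow_eq_pow_val, coe_glOfPow, h, Units.val_one])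

/-- A fixed-point-free matrix of order `r`. -/
theorem exists_fpf {p : ℕ} [Fact p.Prime] [CharP F p] {q : ℕ} (hq : Fintype.card F = q) (d : ℕ) (hd : 0 < d)
    {r : ℕ} [hr : Fact r.Prime] (hdvd : r ∣ q ^ d - 1) :
    ∃ A : Matrix (Fin d) (Fin d) F, A ^ r = 1 ∧ (A - 1).det ≠ 0 := by
  classical
  haveI : NeZero d := ⟨hd.ne'⟩
  let E := FiniteField.Extension F p d
  have hdim : finrank F E = d := FiniteField.finrank_extension F p d
  have hcard : Nat.card E = q ^ d := by
    rw [FiniteField.natCard_extension, Nat.card_eq_fintype_card, hq]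
  haveI : Fintype E := Fintype.ofFinite E
  have hU : Nat.card Eˣ = q ^ d - 1 := by
    rw [Nat.card_eq_fintype_card, Fintype.card_units, ← Nat.card_eq_fintype_card, hcard]
  obtain ⟨t, ht⟩ := exists_prime_orderOf_dvd_card' (G := Eˣ) r (by rw [hU]; exact hdvd)
  have htr : ((t : Eˣ) : E) ^ r = 1 := by
    rw [← Units.val_pow_eq_pow_val, ← ht, pow_orderOf_eq_one, Units.val_one]
  have ht1 : ((t : Eˣ) : E) ≠ 1 := by
    intro h
    have h1 : t = 1 := Units.ext h
    rw [h1, orderOf_one] at ht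
    exact hr.out.one_lt.ne ht
  let b : Basis (Fin d) F E := Module.finBasisOfFinrankEq F E hdim
  let A : Matrix (Fin d) (Fin d) F := Algebra.leftMulMatrix b (t : E)
  refine ⟨A, ?_, ?_⟩
  · change (Algebra.leftMulMatrix b (t : E)) ^ r = 1
    rw [← map_pow, htr, map_one]
  · intro hdet
    obtain ⟨v, hv0, hv⟩ := Matrix.exists_mulVec_eq_zero_iff.2 hdet
    have h1 : A *ᵥ v = v := by
      rw [Matrix.sub_mulVec, Matrix.one_mulVec] at hv
      exact sub_eq_zero.1 hv
    let w : E := b.repr.symm (Finsupp.equivFunOnFinite.symm v)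
    have hw : (⇑(b.repr w) : Fin d → F) = v := by
      funext i
      simp [w]
    have h2 : b.repr ((t : E) * w) = b.repr w := by
      apply DFunLike.coe_injective
      have h3 := Algebra.leftMulMatrix_mulVec_repr b (t : E) w
      rw [← h3, hw]
      exact h1
    have h5 : (t : E) * w = w := b.repr.injective h2
    have h6 : ((t : E) - 1) * w = 0 := by rw [sub_mul, h5, one_mul, sub_self]
    have h7 : w = 0 := (mul_eq_zero.1 h6).resolve_left (sub_ne_zero.2 ht1)
    apply hv0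
    rw [← hw, h7]
    simp

/-- In characteristic two, a nonsingular line fixed by an isometry consists of fixed vectors. -/
theorem fixed_of_line [CharP F 2] (Q : (ι → F) → F) (hQ : ∀ (c : F) v, Q (c • v) = c ^ 2 * Q v) (X : Matrix ι ι F)
    (hX : ∀ v, Q (X *ᵥ v) = Q v) (W : Submodule F (ι → F)) (hW : finrank F W = 1) (v : ι → F) (hv : v ∈ W)
    (hQv : Q v ≠ 0) (hmap : W.map (Matrix.toLin' X) ≤ W) : X *ᵥ v = v := by
  have h0 : Q 0 = 0 := by
    have := hQ 0 0
    simpa using this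
  have hv0 : v ≠ 0 := by
    rintro rfl
    exact hQv h0
  have hXv : X *ᵥ v ∈ W := hmap ⟨v, hv, by rw [Matrix.toLin'_apply]⟩
  have hne : (⟨v, hv⟩ : W) ≠ 0 := fun h => hv0 (congrArg Subtype.val h)
  obtain ⟨c, hc⟩ := (finrank_eq_one_iff_of_nonzero' (⟨v, hv⟩ : W) hne).1 hW ⟨_, hXv⟩
  have hc' : c • v = X *ᵥ v := congrArg Subtype.val hc
  have h1 := hX v
  rw [← hc', hQ] at h1
  have h2 : c ^ 2 = 1 := by
    apply mul_right_cancel₀ hQv
    rw [h1, one_mul]
  have h3 : (c - 1) ^ 2 = 0 := by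
    have h22 : (2 : F) = 0 := CharTwo.two_eq_zero
    linear_combination h2 - c * h22 + h22
  have h4 : c = 1 := sub_eq_zero.1 (pow_eq_zero_iff (two_ne_zero)|>.1 h3)
  rw [← hc', h4, one_smul]

/-- A nonsingular fixed vector gives a fixed nonsingular line. -/
theorem line_of_fixed (Q : (ι → F) → F) (hQ0 : Q 0 = 0) (X : Matrix ι ι F) (v : ι → F)
    (hQv : Q v ≠ 0) (hXv : X *ᵥ v = v) :
    ∃ W : Submodule F (ι → F), (finrank F W = 1 ∧ ∃ v ∈ W, Q v ≠ 0) ∧ W.map (Matrix.toLin' X) ≤ W := by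
  have hv0 : v ≠ 0 := by
    rintro rfl
    exact hQv hQ0
  refine ⟨Submodule.span F {v}, ⟨finrank_span_singleton hv0, v, Submodule.mem_span_singleton_self v, hQv⟩, ?_⟩
  rw [Submodule.map_span_le]
  intro a ha
  rw [Set.mem_singleton_iff] at ha
  subst ha
  rw [Matrix.toLin'_apply, hXv]
  exact Submodule.mem_span_singleton_self _

/-- An involution in characteristic two has rank at most half the dimension. -/
theorem two_mul_rank_le_of_sq [CharP F 2] (X : Matrix ι ι F) (hX : X * X = 1) :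
    2 * (X - 1).rank ≤ Fintype.card ι := by
  classical
  let N : (ι → F) →ₗ[F] (ι → F) := (X - 1).mulVecLin
  have hN : N ∘ₗ N = 0 := by
    refine LinearMap.ext fun v => ?_
    simp only [N, LinearMap.comp_apply, Matrix.mulVecLin_apply, Matrix.mulVec_mulVec, LinearMap.zero_apply]
    have h2 : (X - 1) * (X - 1) = 0 := by
      have h22 : (2 : F) = 0 := CharTwo.two_eq_zero
      have : (X - 1) * (X - 1) = X * X - (2 : F) • X + 1 := by
        rw [sub_mul, mul_sub, mul_sub, two_smul]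
        simp only [mul_one, one_mul]
        abel
      rw [this, hX, h22, zero_smul, sub_zero]
      have h3 : (1 : Matrix ι ι F) + 1 = (2 : F) • 1 := by rw [two_smul]
      rw [h3, h22, zero_smul]
    rw [h2, Matrix.zero_mulVec]
  have h1 : LinearMap.range N ≤ LinearMap.ker N := LinearMap.range_le_ker_iff.2 hN
  have h2 := Submodule.finrank_mono h1
  have h3 := LinearMap.finrank_range_add_finrank_ker N
  have h4 : finrank F (ι → F) = Fintype.card ι := by simp
  have h5 : (X - 1).rank = finrank F (LinearMap.range N) := rfl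
  omega

end Cfsg.Agent.Lib.Elusive.OmegaMem
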